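import Cfsg.Agent.CosetEnum.H89.E6Data

/-! Certificate of a coset enumeration (generated data, owner: helper28). -/

set_option autoImplicit false
set_option maxRecDepth 1000000

namespace Cfsg.Agent.CosetEnum.H89E6

def ck0 : CK := .cons 27 27 0x4201100c8064032011010802401200900880640020190048004800401200900480840320002001008800400200320110088044002021000100480440420010001000800403200900480088084042009004800400200100080840120190009008800c802401202100c8008806403200900c808404201100c8064032011001100c806402201100880440120090048044002001004802401200100080040020040020010008004 ( .nil )

theorem part0 : chunks P L 27 ck0 0 27 = true := by decide +kernel

end Cfsg.Agent.CosetEnum.H89E6
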