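import Cfsg.Agent.CosetEnum.H89.E7Data

/-! Certificate of a coset enumeration (generated data, owner: helper28). -/

set_option autoImplicit false
set_option maxRecDepth 1000000

namespace Cfsg.Agent.CosetEnum.H89E7

def ck0 : CK := .cons 32 32 0x480640420090088044022001001901080008004002019008800880240320010008000800402201100880a404200120090088004052000200100c8024012004202100c80640320210001000800400200901480048044022019014802405200100080040020010009004802404200900880440064022029014804402200900480240120290048044042002200900c8010802402201101480840320032021010804401202101480a40420190108084042019008800c808403202100c80640320190088044022011004806401200900080440220110008024012009004800400200100080040080040020010008004 (
 .cons 24 24 0x1480040020010008004012009004802405200900880440220290088024032021014806402202100190108064006404201900c8044052011008808403202100c8064032011004801080440120190148024012021001100880240220110088014800480240120090008044022011014806401202900090001000800400201100c8024012000202900010008084032021010808404202100090048064032001000800080440520110088004012009004802405201100110008 ( .nil ))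

theorem part0 : chunks P L 56 ck0 0 56 = true := by decide +kernel

end Cfsg.Agent.CosetEnum.H89E7
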