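import Cfsg.Agent.CosetEnum.Basic

/-! Certificate of a coset enumeration (generated data, owner: helper28). -/

set_option autoImplicit false
set_option maxRecDepth 1000000

namespace Cfsg.Agent.CosetEnum.H89E4

noncomputable def tab : T := .l 0 0x6000010000070000110000700000f00007fffffffffff0000000000700000e000060000000000500000d00006fffffffffff00000c00005000000000030000000000600000b00004fffffffffff000009000040000000000200000a0000400000b00005fffffffffff00000700003000000000050000080000300000000002fffffffffff00000600002000000000040000000000100000000003fffffffffff00000000000000005000010000000000200000400001fffffffffff00000000001000003000000000020000000000100000fffffffffff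

def lw : WT := .e

def L : LL := .cons 1 1 (.n 1 (.l [4,1,4] []) (.n 2 (.l [3,1,3] []) (.l [2,1,2,1,2] []))) (.l [] []) ( .cons 2 2 (.n 1 (.l [1,2,1,2,1] []) (.n 2 (.l [3,2,3,2,3] []) (.l [4,2,4,2,4] []))) (.l [] []) ( .cons 3 3 (.n 1 (.l [4,3,4] []) (.l [2,3,2,3,2] [])) (.l [] []) ( .cons 4 4 (.n 1 (.l [2,4,2,4,2] []) (.n 2 (.l [1,4,1] []) (.l [3,4,3] []))) (.e) ( .nil ))))

def iv : List (Nat × Nat) := []

def RL : List (List Nat × Nat) := [([1, 2], 3), ([1, 3], 2), ([1, 4], 2), ([2, 3], 3), ([2, 4], 3), ([3, 4], 2)]

def subs : List (List Nat) := [[1], [2], [3]]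

noncomputable def P : Par := ⟨tab, 220, 1684996666696914987166688442938726917102321526408785780068975640575, 8, icG 4 iv, lw⟩

end Cfsg.Agent.CosetEnum.H89E4
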