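import Cfsg.Agent.CosetEnum.Basic

/-! Certificate of a coset enumeration (generated data, owner: helper28). -/

set_option autoImplicit false
set_option maxRecDepth 1000000

namespace Cfsg.Agent.CosetEnum.H89E5

noncomputable def tab : T := .l 0 0x800001e0000900001f0000900001d0000900001c00009fffffffffff0000000000900001a000080000000000700001b0000800001900008fffffffffff0000160000700001800007000000000080000000000600001700007fffffffffff0000150000600000000004000014000060000000000700001300005fffffffffff0000110000500000000003000010000050000120000500001300006fffffffffff00000e000040000000000600000d0000400000f0000400000000003fffffffffff00000b000030000000000500000c000030000000000200000000004fffffffffff00000a0000200000900002000000000010000000000300000800002fffffffffff0000000000000000700001000000000020000060000100000500001fffffffffff0000000000100000400000000003000000000020000000000100000fffffffffff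

def lw : WT := .e

def L : LL := .cons 1 1 (.n 2 (.n 1 (.l [5,1,5] []) (.l [3,1,3] [])) (.n 3 (.l [4,1,4] []) (.l [2,1,2,1,2] []))) (.l [] []) ( .cons 2 2 (.n 2 (.n 1 (.l [5,2,5] []) (.l [1,2,1,2,1] [])) (.n 3 (.l [4,2,4,2,4] []) (.l [3,2,3,2,3] []))) (.l [] []) ( .cons 3 3 (.n 2 (.n 1 (.l [2,3,2,3,2] []) (.l [1,3,1] [])) (.n 3 (.l [4,3,4] []) (.l [5,3,5,3,5] []))) (.l [] []) ( .cons 4 4 (.n 1 (.l [5,4,5] []) (.n 2 (.l [3,4,3] []) (.l [2,4,2,4,2] []))) (.l [] []) ( .cons 5 5 (.n 2 (.n 1 (.l [3,5,3,5,3] []) (.l [2,5,2] [])) (.n 3 (.l [1,5,1] []) (.l [4,5,4] []))) (.e) ( .nil )))))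

def iv : List (Nat × Nat) := []

def RL : List (List Nat × Nat) := [([1, 2], 3), ([1, 3], 2), ([1, 4], 2), ([1, 5], 2), ([2, 3], 3), ([2, 4], 3), ([2, 5], 2), ([3, 4], 2), ([3, 5], 3), ([4, 5], 2)]

def subs : List (List Nat) := [[1], [2], [3], [4]]

noncomputable def P : Par := ⟨tab, 264, 29642774844752946028434172162224104410437116074403984394101141506025761187823615, 10, icG 5 iv, lw⟩

end Cfsg.Agent.CosetEnum.H89E5
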