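import Cfsg.Agent.CosetEnum.H89.T7Data

/-! Words that act trivially (generated data, owner: helper28). -/

set_option autoImplicit false
set_option maxRecDepth 1000000

namespace Cfsg.Agent.CosetEnum.H89T7

def us : List (List Nat) := [[7, 6, 1, 2, 3, 5, 4, 7, 6, 1, 2, 3, 5, 4, 7, 6, 1, 2, 3, 5, 4, 7, 6, 1, 2, 3, 5, 4, 7, 6, 1, 2, 3, 5, 4, 7, 6, 1, 2, 3, 5, 4, 7, 6, 1, 2, 3, 5, 4, 7, 6, 1, 2, 3, 5, 4, 7, 6, 1, 2, 3, 5, 4, 1, 4, 5, 3, 2, 1, 6, 7, 4, 5, 3, 2, 1, 6, 7, 4, 5, 3, 2, 1, 6, 7, 4, 5, 3, 2, 1, 6, 7, 4, 5, 3, 2, 1, 6, 7, 4, 5, 3, 2, 1, 6, 7, 4, 5, 3, 2, 1, 6, 7, 4, 5, 3, 2, 1, 6, 7, 4, 5, 3, 2, 1, 6, 7,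 1], [7, 6, 1, 2, 3, 5, 4, 7, 6, 1, 2, 3, 5, 4, 7, 6, 1, 2, 3, 5, 4, 7, 6, 1, 2, 3, 5, 4, 7, 6, 1, 2, 3, 5, 4, 7, 6, 1, 2, 3, 5, 4, 7, 6, 1, 2, 3, 5, 4, 7, 6, 1, 2, 3, 5, 4, 7, 6, 1, 2, 3, 5, 4, 2, 4, 5, 3, 2, 1, 6, 7, 4, 5, 3, 2, 1, 6, 7, 4, 5, 3, 2, 1, 6, 7, 4, 5, 3, 2, 1, 6, 7, 4, 5, 3, 2, 1, 6, 7, 4, 5, 3, 2, 1, 6, 7, 4, 5, 3, 2, 1, 6, 7, 4, 5, 3, 2, 1, 6, 7, 4, 5, 3, 2, 1, 6, 7, 2], [7, 6, 1, 2, 3, 5, 4, 7, 6, 1, 2, 3, 5, 4, 7, 6, 1, 2, 3, 5, 4, 7, 6, 1, 2, 3, 5, 4, 7, 6, 1, 2, 3, 5, 4, 7, 6, 1, 2, 3, 5, 4, 7, 6, 1, 2, 3, 5, 4, 7, 6, 1, 2, 3, 5, 4, 7, 6, 1, 2, 3, 5, 4, 3, 4, 5, 3, 2, 1, 6, 7, 4, 5, 3, 2,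 1, 6, 7, 4, 5, 3, 2, 1, 6, 7, 4, 5, 3, 2, 1, 6, 7, 4, 5, 3, 2, 1, 6, 7, 4, 5, 3, 2, 1, 6, 7, 4, 5, 3, 2, 1, 6, 7, 4, 5, 3, 2, 1, 6, 7, 4, 5, 3, 2, 1, 6, 7, 3], [7, 6, 1, 2, 3, 5, 4, 7, 6, 1, 2, 3, 5, 4, 7, 6, 1, 2, 3, 5, 4, 7, 6, 1, 2, 3, 5, 4, 7, 6, 1, 2, 3, 5, 4, 7, 6, 1, 2, 3, 5, 4, 7, 6, 1, 2, 3, 5, 4, 7, 6, 1, 2, 3, 5, 4, 7, 6, 1, 2, 3, 5, 4, 4, 4, 5, 3, 2, 1, 6, 7, 4, 5, 3, 2, 1, 6, 7, 4, 5, 3, 2, 1, 6, 7, 4, 5, 3, 2, 1, 6, 7, 4, 5, 3, 2, 1, 6, 7, 4, 5, 3, 2, 1, 6, 7, 4, 5, 3, 2, 1, 6, 7, 4, 5, 3, 2, 1, 6, 7, 4, 5, 3, 2, 1, 6, 7, 4], [7, 6, 1, 2, 3, 5, 4, 7, 6, 1, 2, 3, 5, 4, 7, 6, 1, 2, 3, 5, 4, 7, 6,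 1, 2, 3, 5, 4, 7, 6, 1, 2, 3, 5, 4, 7, 6, 1, 2, 3, 5, 4, 7, 6, 1, 2, 3, 5, 4, 7, 6, 1, 2, 3, 5, 4, 7, 6, 1, 2, 3, 5, 4, 5, 4, 5, 3, 2, 1, 6, 7, 4, 5, 3, 2, 1, 6, 7, 4, 5, 3, 2, 1, 6, 7, 4, 5, 3, 2, 1, 6, 7, 4, 5, 3, 2, 1, 6, 7, 4, 5, 3, 2, 1, 6, 7, 4, 5, 3, 2, 1, 6, 7, 4, 5, 3, 2, 1, 6, 7, 4, 5, 3, 2, 1, 6, 7, 5], [7, 6, 1, 2, 3, 5, 4, 7, 6, 1, 2, 3, 5, 4, 7, 6, 1, 2, 3, 5, 4, 7, 6, 1, 2, 3, 5, 4, 7, 6, 1, 2, 3, 5, 4, 7, 6, 1, 2, 3, 5, 4, 7, 6, 1, 2, 3, 5, 4, 7, 6, 1, 2, 3, 5, 4, 7, 6, 1, 2, 3, 5, 4, 6, 4, 5, 3, 2, 1, 6, 7, 4, 5, 3, 2, 1, 6, 7, 4, 5, 3, 2, 1, 6, 7, 4, 5, 3, 2, 1, 6, 7, 4, 5, 3, 2, 1, 6, 7, 4,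 5, 3, 2, 1, 6, 7, 4, 5, 3, 2, 1, 6, 7, 4, 5, 3, 2, 1, 6, 7, 4, 5, 3, 2, 1, 6, 7, 6], [7, 6, 1, 2, 3, 5, 4, 7, 6, 1, 2, 3, 5, 4, 7, 6, 1, 2, 3, 5, 4, 7, 6, 1, 2, 3, 5, 4, 7, 6, 1, 2, 3, 5, 4, 7, 6, 1, 2, 3, 5, 4, 7, 6, 1, 2, 3, 5, 4, 7, 6, 1, 2, 3, 5, 4, 7, 6, 1, 2, 3, 5, 4, 7, 4, 5, 3, 2, 1, 6, 7, 4, 5, 3, 2, 1, 6, 7, 4, 5, 3, 2, 1, 6, 7, 4, 5, 3, 2, 1, 6, 7, 4, 5, 3, 2, 1, 6, 7, 4, 5, 3, 2, 1, 6, 7, 4, 5, 3, 2, 1, 6, 7, 4, 5, 3, 2, 1, 6, 7, 4, 5, 3, 2, 1, 6, 7, 7], [7, 6, 1, 2, 3, 5, 4, 7, 6, 1, 2, 3, 5, 4, 7, 6, 1, 2, 3, 5, 4, 7, 6, 1, 2, 3, 5, 4, 7, 6, 1, 2, 3, 5, 4, 7, 6, 1, 2, 3, 5, 4, 7, 6, 1, 2, 3, 5,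 4, 7, 6, 1, 2, 3, 5, 4, 7, 6, 1, 2, 3, 5, 4, 7, 6, 1, 2, 3, 5, 4, 7, 6, 1, 2, 3, 5, 4, 7, 6, 1, 2, 3, 5, 4, 7, 6, 1, 2, 3, 5, 4, 7, 6, 1, 2, 3, 5, 4, 7, 6, 1, 2, 3, 5, 4, 7, 6, 1, 2, 3, 5, 4, 7, 6, 1, 2, 3, 5, 4, 7, 6, 1, 2, 3, 5, 4], [5, 3, 2, 1, 6, 7, 4, 5, 3, 2, 1, 6, 7, 4, 5, 3, 2, 1, 6, 7, 4, 5, 3, 2, 1, 6, 7, 4, 5, 3, 2, 1, 6, 7, 4, 5, 3, 2, 1, 6, 7, 4, 5, 3, 2, 1, 6, 7, 4, 5, 3, 2, 1, 6, 7, 4, 5, 3, 2, 1, 6, 7, 4, 1, 4, 7, 6, 1, 2, 3, 5, 4, 7, 6, 1, 2, 3, 5, 4, 7, 6, 1, 2, 3, 5, 4, 7, 6, 1, 2, 3, 5, 4, 7, 6, 1, 2, 3, 5, 4, 7, 6, 1, 2, 3, 5, 4, 7, 6, 1, 2, 3, 5, 4, 7, 6, 1, 2, 3, 5, 4, 7, 6, 1, 2, 3, 5,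 1], [5, 3, 2, 1, 6, 7, 4, 5, 3, 2, 1, 6, 7, 4, 5, 3, 2, 1, 6, 7, 4, 5, 3, 2, 1, 6, 7, 4, 5, 3, 2, 1, 6, 7, 4, 5, 3, 2, 1, 6, 7, 4, 5, 3, 2, 1, 6, 7, 4, 5, 3, 2, 1, 6, 7, 4, 5, 3, 2, 1, 6, 7, 4, 2, 4, 7, 6, 1, 2, 3, 5, 4, 7, 6, 1, 2, 3, 5, 4, 7, 6, 1, 2, 3, 5, 4, 7, 6, 1, 2, 3, 5, 4, 7, 6, 1, 2, 3, 5, 4, 7, 6, 1, 2, 3, 5, 4, 7, 6, 1, 2, 3, 5, 4, 7, 6, 1, 2, 3, 5, 4, 7, 6, 1, 2, 3, 5, 2], [5, 3, 2, 1, 6, 7, 4, 5, 3, 2, 1, 6, 7, 4, 5, 3, 2, 1, 6, 7, 4, 5, 3, 2, 1, 6, 7, 4, 5, 3, 2, 1, 6, 7, 4, 5, 3, 2, 1, 6, 7, 4, 5, 3, 2, 1, 6, 7, 4, 5, 3, 2, 1, 6, 7, 4, 5, 3, 2, 1, 6, 7, 4, 3, 4, 7, 6, 1, 2, 3, 5, 4, 7, 6, 1,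 2, 3, 5, 4, 7, 6, 1, 2, 3, 5, 4, 7, 6, 1, 2, 3, 5, 4, 7, 6, 1, 2, 3, 5, 4, 7, 6, 1, 2, 3, 5, 4, 7, 6, 1, 2, 3, 5, 4, 7, 6, 1, 2, 3, 5, 4, 7, 6, 1, 2, 3, 5, 3], [5, 3, 2, 1, 6, 7, 4, 5, 3, 2, 1, 6, 7, 4, 5, 3, 2, 1, 6, 7, 4, 5, 3, 2, 1, 6, 7, 4, 5, 3, 2, 1, 6, 7, 4, 5, 3, 2, 1, 6, 7, 4, 5, 3, 2, 1, 6, 7, 4, 5, 3, 2, 1, 6, 7, 4, 5, 3, 2, 1, 6, 7, 4, 4, 4, 7, 6, 1, 2, 3, 5, 4, 7, 6, 1, 2, 3, 5, 4, 7, 6, 1, 2, 3, 5, 4, 7, 6, 1, 2, 3, 5, 4, 7, 6, 1, 2, 3, 5, 4, 7, 6, 1, 2, 3, 5, 4, 7, 6, 1, 2, 3, 5, 4, 7, 6, 1, 2, 3, 5, 4, 7, 6, 1, 2, 3, 5, 4], [5, 3, 2, 1, 6, 7, 4, 5, 3, 2, 1, 6, 7, 4, 5, 3, 2, 1, 6, 7, 4, 5, 3,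 2, 1, 6, 7, 4, 5, 3, 2, 1, 6, 7, 4, 5, 3, 2, 1, 6, 7, 4, 5, 3, 2, 1, 6, 7, 4, 5, 3, 2, 1, 6, 7, 4, 5, 3, 2, 1, 6, 7, 4, 5, 4, 7, 6, 1, 2, 3, 5, 4, 7, 6, 1, 2, 3, 5, 4, 7, 6, 1, 2, 3, 5, 4, 7, 6, 1, 2, 3, 5, 4, 7, 6, 1, 2, 3, 5, 4, 7, 6, 1, 2, 3, 5, 4, 7, 6, 1, 2, 3, 5, 4, 7, 6, 1, 2, 3, 5, 4, 7, 6, 1, 2, 3, 5, 5], [5, 3, 2, 1, 6, 7, 4, 5, 3, 2, 1, 6, 7, 4, 5, 3, 2, 1, 6, 7, 4, 5, 3, 2, 1, 6, 7, 4, 5, 3, 2, 1, 6, 7, 4, 5, 3, 2, 1, 6, 7, 4, 5, 3, 2, 1, 6, 7, 4, 5, 3, 2, 1, 6, 7, 4, 5, 3, 2, 1, 6, 7, 4, 6, 4, 7, 6, 1, 2, 3, 5, 4, 7, 6, 1, 2, 3, 5, 4, 7, 6, 1, 2, 3, 5, 4, 7, 6, 1, 2, 3, 5, 4, 7, 6, 1, 2, 3, 5, 4,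 7, 6, 1, 2, 3, 5, 4, 7, 6, 1, 2, 3, 5, 4, 7, 6, 1, 2, 3, 5, 4, 7, 6, 1, 2, 3, 5, 6], [5, 3, 2, 1, 6, 7, 4, 5, 3, 2, 1, 6, 7, 4, 5, 3, 2, 1, 6, 7, 4, 5, 3, 2, 1, 6, 7, 4, 5, 3, 2, 1, 6, 7, 4, 5, 3, 2, 1, 6, 7, 4, 5, 3, 2, 1, 6, 7, 4, 5, 3, 2, 1, 6, 7, 4, 5, 3, 2, 1, 6, 7, 4, 7, 4, 7, 6, 1, 2, 3, 5, 4, 7, 6, 1, 2, 3, 5, 4, 7, 6, 1, 2, 3, 5, 4, 7, 6, 1, 2, 3, 5, 4, 7, 6, 1, 2, 3, 5, 4, 7, 6, 1, 2, 3, 5, 4, 7, 6, 1, 2, 3, 5, 4, 7, 6, 1, 2, 3, 5, 4, 7, 6, 1, 2, 3, 5, 7], [5, 3, 2, 1, 6, 7, 4, 5, 3, 2, 1, 6, 7, 4, 5, 3, 2, 1, 6, 7, 4, 5, 3, 2, 1, 6, 7, 4, 5, 3, 2, 1, 6, 7, 4, 5, 3, 2, 1, 6, 7, 4, 5, 3, 2, 1, 6, 7,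 4, 5, 3, 2, 1, 6, 7, 4, 5, 3, 2, 1, 6, 7, 4, 5, 3, 2, 1, 6, 7, 4, 5, 3, 2, 1, 6, 7, 4, 5, 3, 2, 1, 6, 7, 4, 5, 3, 2, 1, 6, 7, 4, 5, 3, 2, 1, 6, 7, 4, 5, 3, 2, 1, 6, 7, 4, 5, 3, 2, 1, 6, 7, 4, 5, 3, 2, 1, 6, 7, 4, 5, 3, 2, 1, 6, 7, 4], [2, 4, 3, 1, 2, 1, 3, 4, 2, 4, 2, 4, 3, 1, 2, 1, 3, 4, 2, 4], [2, 4, 3, 1, 2, 1, 3, 4, 2, 1, 2, 4, 3, 1, 2, 1, 3, 4, 2, 1], [2, 4, 3, 1, 2, 1, 3, 4, 2, 3, 2, 4, 3, 1, 2, 1, 3, 4, 2, 3]]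

end Cfsg.Agent.CosetEnum.H89T7
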