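import Cfsg.Agent.CosetEnum.Basic

/-! Permutation table (generated data, owner: helper28). -/

set_option autoImplicit false
set_option maxRecDepth 1000000

namespace Cfsg.Agent.CosetEnum.H89T7

noncomputable def tab : T := .n 48 (.l 0 0x2f0002f0002e00032000310002d0002f000000002e0002e0002f000300002e0002c0002e000000002d0002d0002c0002d0002d0002f0002b000000002c0002c0002d0002c0002a0002e00029000000002b00028000290002b0002b0002b0002d000000002a0002a0002a0002a0002c0002a000270000000029000260002b0002900027000290002c000000001b0002b0002600028000280002800028000000002700024000270002700029000250002a000000001a0002900028000260002400026000260000000025000220002500023000250002700025000000001900027000240002400026000220002400000000230002000023000250002300023000230000000018000250002200020000220002400021000000001600021000210001f000210002100022000000001700023000200002200020000200001f00000000150001f0001f000210001f0001e0002000000000130001e0001e0001e0001d0001f0001e00000000110001d0001c0001d0001e0001d0001d000000000e0001c0001d0001c0001c0001c0001c00000000280001b0001a0001b0001b0001b0001b00000000260001a0001b0001a000190001a0001a00000000240001900019000190001a0001800019000000002200018000180001700018000190001600000000200001700017000180001700017000150000000021000140001600015000160001600018000000001f00012000150001600015000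13000170000000014000160001400012000140001400014000000001e0001000013000130001100015000130000000012000150001200014000120001000012000000001d0000d0000e0001100013000110001100000000100001300010000100000d000120000f000000000f0000f0000f0000f0000c0000f00010000000001c0000b000110000e0000e0000e0000e000000000d000110000b0000d000100000d0000c000000000c0000c000090000c0000f0000a0000d000000000b0000e0000d0000b0000b0000b00009000000000a0000a00007000080000a0000c0000a0000000009000090000c0000900009000070000b000000000800008000050000a0000800008000080000000007000070000a00005000060000900007000000000600006000060000400007000060000600000000050000500008000070000400005000050000000004000040000400006000050000300004000000000300003000030000300003000040000200000000020000100002000020000200002000030000000000000020000100001000010000100001000000000100000000000000000000000000000000000)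
 (.l 48 0x360003700037000370003700037000370000000037000350003600036000360003600036000000003500036000350003500035000350003400000000340003400034000340003400033000350000000033000330003300031000320003400033000000003200032000300002f00033000320003200000000310003100031000330002f0003100031000000003000030000320002e00030000300003000000)

def iv : List (Nat × Nat) := []

def RL : List (List Nat × Nat) := [([1, 2], 3), ([1, 3], 2), ([1, 4], 2), ([1, 5], 2), ([1, 6], 3), ([1, 7], 2), ([2, 3], 3), ([2, 4], 3), ([2, 5], 2), ([2, 6], 2), ([2, 7], 2), ([3, 4], 2), ([3, 5], 3), ([3, 6], 2), ([3, 7], 2), ([4, 5], 2), ([4, 6], 2), ([4, 7], 2), ([5, 6], 2), ([5, 7], 2), ([6, 7], 3)]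

def lets : List Nat := [1, 2, 3, 4, 5, 6, 7]

def letsk : List Nat := [1, 2, 3, 4, 5, 6]

noncomputable def P : Par := ⟨tab, 160, 1461501637330902918203684832716283019655932542975, 56, fun _ _ => false, .e⟩

end Cfsg.Agent.CosetEnum.H89T7
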